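import Mathlib
import Groth.Agent.Lib.Helper13.ExtAdj

/-!
# Helper2 / EtMV: naturality of `Ext.mapExactFunctor` and of the adjunction comparison

* `mapExact_nat`: for exact functors `F₁ : C ⥤ D`, `F₂ : D ⥤ E`, `G : C ⥤ E` and a natural
  transformation `κ : F₁ ⋙ F₂ ⟶ G`, the maps on `Ext` satisfy
  `F₂(F₁ e) ≫ κ_Y = κ_X ≫ G e`.
* `extAdjMap_precomp`, `extAdjMap_via`: compatibility of helper13's `extAdjMap` with
  precomposition and with a "change of adjunction".
-/

set_option autoImplicit false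
open CategoryTheory CategoryTheory.Limits CategoryTheory.Abelian

namespace Groth.Agent.Lib.Helper2.EtMV

universe w₁ w₂ w₃ v₁ v₂ v₃ u₁ u₂ u₃

section Nat

variable {C : Type u₁} [Category.{v₁} C] [Abelian C] [HasExt.{w₁} C] [EnoughInjectives C]
  {D : Type u₂} [Category.{v₂} D] [Abelian D] [HasExt.{w₂} D]
  {E : Type u₃} [Category.{v₃} E] [Abelian E] [HasExt.{w₃} E]
  (F₁ : C ⥤ D) [F₁.Additive] [PreservesFiniteLimits F₁] [PreservesFiniteColimits F₁]
  (F₂ : D ⥤ E) [F₂.Additive] [PreservesFiniteLimits F₂] [PreservesFiniteColimits F₂]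
  (G : C ⥤ E) [G.Additive] [PreservesFiniteLimits G] [PreservesFiniteColimits G]
  (κ : F₁ ⋙ F₂ ⟶ G)

theorem mapExact_nat (n : ℕ) : ∀ {X Y : C} (e : Ext.{w₁} X Y n),
    ((e.mapExactFunctor F₁).mapExactFunctor F₂).comp (Ext.mk₀ (κ.app Y)) (add_zero n) =
      (Ext.mk₀ (κ.app X)).comp (e.mapExactFunctor G) (zero_add n) := by
  induction n with
  | zero =>
    intro X Y e
    obtain ⟨g, rfl⟩ := (Ext.mk₀_bijective X Y).2 e
    rw [Ext.mapExactFunctor_mk₀, Ext.mapExactFunctor_mk₀, Ext.mapExactFunctor_mk₀,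
      Ext.mk₀_comp_mk₀, Ext.mk₀_comp_mk₀]
    congr 1
    exact κ.naturality g
  | succ n ih =>
    intro X Y e
    let S : ShortComplex C := ShortComplex.mk (Injective.ι Y) (cokernel.π (Injective.ι Y))
      (cokernel.condition _)
    have hS : S.ShortExact :=
      { exact := ShortComplex.exact_cokernel (Injective.ι Y)
        mono_f := inferInstanceAs (Mono (Injective.ι Y))
        epi_g := inferInstanceAs (Epi (cokernel.π (Injective.ι Y))) }
    have : Injective S.X₂ := inferInstanceAs (Injective (Injective.under Y))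
    obtain ⟨z, rfl⟩ := Ext.covariant_sequence_exact₁ _ hS e (Ext.eq_zero_of_injective _) rfl
    have h₁ : ((S.map F₁).map F₂).ShortExact := (hS.map_of_exact F₁).map_of_exact F₂
    have h₂ : (S.map G).ShortExact := hS.map_of_exact G
    let φ : (S.map F₁).map F₂ ⟶ S.map G :=
      { τ₁ := κ.app S.X₁, τ₂ := κ.app S.X₂, τ₃ := κ.app S.X₃
        comm₁₂ := (κ.naturality S.f).symm
        comm₂₃ := (κ.naturality S.g).symm }
    have hnat : h₁.extClass.comp (Ext.mk₀ (κ.app S.X₁)) (add_zero 1) =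
        (Ext.mk₀ (κ.app S.X₃)).comp h₂.extClass (zero_add 1) :=
      ShortComplex.ShortExact.extClass_naturality h₁ h₂ φ
    have e₁ : ((z.comp hS.extClass rfl).mapExactFunctor F₁).mapExactFunctor F₂ =
        ((z.mapExactFunctor F₁).mapExactFunctor F₂).comp h₁.extClass rfl := by
      rw [Ext.mapExactFunctor_comp, Ext.mapExactFunctor_comp, Ext.mapExactFunctor_extClass]
      exact congrArg (fun t => ((z.mapExactFunctor F₁).mapExactFunctor F₂).comp t rfl)
        (Ext.mapExactFunctor_extClass F₂ (hS.map_of_exact F₁))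
    have e₂ : (z.comp hS.extClass rfl).mapExactFunctor G =
        (z.mapExactFunctor G).comp h₂.extClass rfl := by
      rw [Ext.mapExactFunctor_comp, Ext.mapExactFunctor_extClass]
      rfl
    rw [e₁, e₂]
    calc (((z.mapExactFunctor F₁).mapExactFunctor F₂).comp h₁.extClass rfl).comp
          (Ext.mk₀ (κ.app S.X₁)) (add_zero (n + 1))
        = ((z.mapExactFunctor F₁).mapExactFunctor F₂).comp
            (h₁.extClass.comp (Ext.mk₀ (κ.app S.X₁)) (add_zero 1)) rfl :=
          Ext.comp_assoc_of_third_deg_zero _ _ _ _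
      _ = ((z.mapExactFunctor F₁).mapExactFunctor F₂).comp
            ((Ext.mk₀ (κ.app S.X₃)).comp h₂.extClass (zero_add 1)) rfl :=
          congrArg (fun t => ((z.mapExactFunctor F₁).mapExactFunctor F₂).comp t rfl) hnat
      _ = (((z.mapExactFunctor F₁).mapExactFunctor F₂).comp (Ext.mk₀ (κ.app S.X₃))
            (add_zero n)).comp h₂.extClass rfl :=
          (Ext.comp_assoc_of_second_deg_zero _ _ _ _).symm
      _ = ((Ext.mk₀ (κ.app X)).comp (z.mapExactFunctor G) (zero_add n)).comp h₂.extClass rfl :=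
          congrArg (fun t => Ext.comp t h₂.extClass rfl) (ih z)
      _ = (Ext.mk₀ (κ.app X)).comp ((z.mapExactFunctor G).comp h₂.extClass rfl)
            (zero_add (n + 1)) :=
          Ext.comp_assoc _ _ _ (zero_add n) rfl (by omega)

end Nat

section Adj

open Groth.Agent.Lib.Helper13.ExtAdj

variable {C : Type u₁} [Category.{v₁} C] [Abelian C] [HasExt.{w₁} C]
  {D : Type u₂} [Category.{v₂} D] [Abelian D] [HasExt.{w₂} D]
  {L : D ⥤ C} {R : C ⥤ D} (adj : L ⊣ R) [R.Additive] [PreservesFiniteLimits R]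
  [PreservesFiniteColimits R]

/-- `extAdjMap` of a precomposition. -/
lemma extAdjMap_precomp {X : D} {Z F : C} (a : L.obj X ⟶ Z) (n : ℕ) (e : Ext.{w₁} Z F n) :
    extAdjMap adj X F n ((Ext.mk₀ a).comp e (zero_add n)) =
      (Ext.mk₀ (adj.homEquiv X Z a)).comp (e.mapExactFunctor R) (zero_add n) := by
  rw [extAdjMap_apply, Ext.mapExactFunctor_comp, Ext.mapExactFunctor_mk₀,
    Ext.mk₀_comp_mk₀_assoc, Adjunction.homEquiv_unit]

variable {D' : Type u₃} [Category.{v₃} D'] [Abelian D'] [HasExt.{w₃} D']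
  {L' : D' ⥤ C} {R' : C ⥤ D'} (adj' : L' ⊣ R') [R'.Additive] [PreservesFiniteLimits R']
  [PreservesFiniteColimits R']
  (P : D ⥤ D') [P.Additive] [PreservesFiniteLimits P] [PreservesFiniteColimits P]
  (κ : R ⋙ P ⟶ R') [EnoughInjectives C]

/-- Compatibility of the adjunction comparison maps with a change of adjunction. -/
lemma extAdjMap_via {X : D} {X' : D'} (c : X' ⟶ P.obj X) (F : C) (n : ℕ)
    (x : Ext.{w₁} (L.obj X) F n) :
    ((Ext.mk₀ c).comp ((extAdjMap adj X F n x).mapExactFunctor P) (zero_add n)).comp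
        (Ext.mk₀ (κ.app F)) (add_zero n) =
      extAdjMap adj' X' F n
        ((Ext.mk₀ ((adj'.homEquiv X' (L.obj X)).symm
          (c ≫ P.map (adj.unit.app X) ≫ κ.app (L.obj X)))).comp x (zero_add n)) := by
  rw [extAdjMap_precomp, Equiv.apply_symm_apply, extAdjMap_apply, Ext.mapExactFunctor_comp,
    Ext.mapExactFunctor_mk₀, Ext.mk₀_comp_mk₀_assoc,
    Ext.comp_assoc _ _ _ (zero_add n) (add_zero n) (by omega),
    mapExact_nat R P R' κ n x, Ext.mk₀_comp_mk₀_assoc, Category.assoc]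

end Adj

end Groth.Agent.Lib.Helper2.EtMV
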