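import Mathlib

/-!
# Helper2 / EtMV: the abstract Mayer–Vietoris sequence for `Ext`

* `shortExact_of_isPushout_isPullback`: a bicartesian square in an abelian category gives a short
  exact sequence `0 → A → B₁ ⊞ B₂ → Z → 0`.
* `isPushout_of_jointly`, `isPullback_of_jointly`: conservative families of exact functors reflect
  pushout / pullback squares.
* `mv_abstract`: the Mayer–Vietoris sequence obtained from the contravariant long exact `Ext`
  sequence, transported along arbitrary identifications of the `Ext` groups.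
-/

set_option autoImplicit false
open CategoryTheory CategoryTheory.Limits CategoryTheory.Abelian

namespace Groth.Agent.Lib.Helper2.EtMV

universe w w' v u

section Squares

variable {C : Type u} [Category.{v} C]

section Jointly

variable {I : Type*} {D : I → Type*} [∀ i, Category (D i)] {T : ∀ i, C ⥤ D i}
  (hT : JointlyReflectIsomorphisms T)
  {A B₁ B₂ Z : C} {f : A ⟶ B₁} {g : A ⟶ B₂} {inl : B₁ ⟶ Z} {inr : B₂ ⟶ Z}

include hT

lemma isPushout_of_jointly (sq : CommSq f g inl inr) [HasColimit (span f g)]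
    [∀ i, PreservesColimit (span f g) (T i)]
    (h : ∀ i, IsPushout ((T i).map f) ((T i).map g) ((T i).map inl) ((T i).map inr)) :
    IsPushout f g inl inr :=
  ⟨sq, ⟨hT.jointlyReflectsColimit (fun i =>
    (isColimitMapCoconePushoutCoconeEquiv (T i) sq.w).symm (h i).isColimit)⟩⟩

lemma isPullback_of_jointly (sq : CommSq f g inl inr) [HasLimit (cospan inl inr)]
    [∀ i, PreservesLimit (cospan inl inr) (T i)]
    (h : ∀ i, IsPullback ((T i).map f) ((T i).map g) ((T i).map inl) ((T i).map inr)) :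
    IsPullback f g inl inr :=
  ⟨sq, ⟨hT.jointlyReflectsLimit (fun i =>
    (isLimitMapConePullbackConeEquiv (T i) sq.w).symm (h i).isLimit)⟩⟩

/-- A commutative square which after applying each functor of a conservative family of
functors has either both horizontal or both vertical maps invertible is bicartesian. -/
lemma bicartesian_of_jointly (sq : CommSq f g inl inr) [HasColimit (span f g)]
    [∀ i, PreservesColimit (span f g) (T i)] [HasLimit (cospan inl inr)]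
    [∀ i, PreservesLimit (cospan inl inr) (T i)]
    (h : ∀ i, (IsIso ((T i).map f) ∧ IsIso ((T i).map inr)) ∨
      (IsIso ((T i).map g) ∧ IsIso ((T i).map inl))) :
    IsPushout f g inl inr ∧ IsPullback f g inl inr := by
  constructor
  · refine isPushout_of_jointly hT sq (fun i => ?_)
    rcases h i with ⟨h1, h2⟩ | ⟨h1, h2⟩
    · exact IsPushout.of_horiz_isIso (sq.map (T i))
    · exact IsPushout.of_vert_isIso (sq.map (T i))
  · refine isPullback_of_jointly hT sq (fun i => ?_)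
    rcases h i with ⟨h1, h2⟩ | ⟨h1, h2⟩
    · exact IsPullback.of_horiz_isIso (sq.map (T i))
    · exact IsPullback.of_vert_isIso (sq.map (T i))

end Jointly

variable [Abelian C] {A B₁ B₂ Z : C} {bU : A ⟶ B₁} {bV : A ⟶ B₂} {aU : B₁ ⟶ Z} {aV : B₂ ⟶ Z}

lemma mvZero (sq : CommSq bU bV aU aV) : biprod.lift bU (-bV) ≫ biprod.desc aU aV = 0 := by
  simp [sq.w]

lemma shortExact_of_isPushout_isPullback (hpo : IsPushout bU bV aU aV)
    (hpb : IsPullback bU bV aU aV) :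
    (ShortComplex.mk (biprod.lift bU (-bV)) (biprod.desc aU aV) (mvZero hpo.toCommSq)).ShortExact := by
  have hm : Mono (biprod.lift bU (-bV)) := by
    rw [Preadditive.mono_iff_cancel_zero]
    intro P k hk
    have h1 : k ≫ bU = 0 := by simpa using hk =≫ biprod.fst
    have h2 : k ≫ bV = 0 := by simpa using hk =≫ biprod.snd
    apply hpb.hom_ext
    · rw [h1, zero_comp]
    · rw [h2, zero_comp]
  have he : Epi (biprod.desc aU aV) := hpo.epi_shortComplex_g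
  exact { exact := hpo.exact_shortComplex
          mono_f := hm
          epi_g := he }

end Squares

section MV

variable {C : Type u} [Category.{v} C] [Abelian C] [HasExt.{w} C]
  {A B₁ B₂ Z : C} {bU : A ⟶ B₁} {bV : A ⟶ B₂} {aU : B₁ ⟶ Z} {aV : B₂ ⟶ Z}

theorem mv_abstract' (f : A ⟶ B₁ ⊞ B₂) (g : B₁ ⊞ B₂ ⟶ Z) (hzero : f ≫ g = 0)
    (hS : (ShortComplex.mk f g hzero).ShortExact)
    (hf1 : f ≫ biprod.fst = bU) (hf2 : f ≫ biprod.snd = -bV)
    (hg1 : biprod.inl ≫ g = aU) (hg2 : biprod.inr ≫ g = aV) (F : C)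
    {GU GV GW : ℕ → Type w'} [∀ n, AddCommGroup (GU n)] [∀ n, AddCommGroup (GV n)]
    [∀ n, AddCommGroup (GW n)]
    (ΘU : ∀ n, Ext.{w} B₁ F n ≃+ GU n) (ΘV : ∀ n, Ext.{w} B₂ F n ≃+ GV n)
    (ΘW : ∀ n, Ext.{w} A F n ≃+ GW n)
    (rU : ∀ n, Ext.{w} Z F n →+ GU n) (rV : ∀ n, Ext.{w} Z F n →+ GV n)
    (sU : ∀ n, GU n →+ GW n) (sV : ∀ n, GV n →+ GW n)
    (hrU : ∀ n (e : Ext.{w} Z F n), rU n e = ΘU n ((Ext.mk₀ aU).comp e (zero_add n)))
    (hrV : ∀ n (e : Ext.{w} Z F n), rV n e = ΘV n ((Ext.mk₀ aV).comp e (zero_add n)))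
    (hsU : ∀ n (x : Ext.{w} B₁ F n), sU n (ΘU n x) = ΘW n ((Ext.mk₀ bU).comp x (zero_add n)))
    (hsV : ∀ n (x : Ext.{w} B₂ F n), sV n (ΘV n x) = ΘW n ((Ext.mk₀ bV).comp x (zero_add n))) :
    ∃ δ : ∀ n : ℕ, GW n →+ Ext.{w} Z F (n + 1),
      (AddMonoidHom.prod (rU 0) (rV 0)).ker = ⊥ ∧
      (∀ n : ℕ, (AddMonoidHom.prod (rU (n + 1)) (rV (n + 1))).ker = (δ n).range) ∧
      (∀ n : ℕ, ((sU n).comp (AddMonoidHom.fst _ _) - (sV n).comp (AddMonoidHom.snd _ _)).ker =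
        (AddMonoidHom.prod (rU n) (rV n)).range) ∧
      (∀ n : ℕ, (δ n).ker =
        ((sU n).comp (AddMonoidHom.fst _ _) - (sV n).comp (AddMonoidHom.snd _ _)).range) := by
  -- the long exact sequence, in clean types
  obtain ⟨ε, hε⟩ : ∃ ε : Ext.{w} Z A 1, ε = hS.extClass := ⟨_, rfl⟩
  have hepi : Epi g := hS.epi_g
  have ex1 : ∀ (n : ℕ) (x₁ : Ext.{w} A F n), ε.comp x₁ (add_comm 1 n) = 0 →
      ∃ x₂ : Ext.{w} (B₁ ⊞ B₂) F n, (Ext.mk₀ f).comp x₂ (zero_add n) = x₁ := by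
    intro n x₁ h
    subst hε
    exact Ext.contravariant_sequence_exact₁ hS F x₁ (add_comm 1 n) h
  have ex2 : ∀ (n : ℕ) (x₂ : Ext.{w} (B₁ ⊞ B₂) F n), (Ext.mk₀ f).comp x₂ (zero_add n) = 0 →
      ∃ e : Ext.{w} Z F n, (Ext.mk₀ g).comp e (zero_add n) = x₂ :=
    fun n x₂ h => Ext.contravariant_sequence_exact₂ hS F x₂ h
  have ex3 : ∀ (n : ℕ) (e : Ext.{w} Z F (n + 1)), (Ext.mk₀ g).comp e (zero_add (n + 1)) = 0 →
      ∃ x₁ : Ext.{w} A F n, ε.comp x₁ (add_comm 1 n) = e := by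
    intro n e h
    subst hε
    exact Ext.contravariant_sequence_exact₃ hS F e h (add_comm 1 n)
  have z1 : ∀ (n : ℕ) (x₁ : Ext.{w} A F n),
      (Ext.mk₀ g).comp (ε.comp x₁ (add_comm 1 n)) (zero_add (n + 1)) = 0 := by
    intro n x₁
    subst hε
    exact hS.comp_extClass_assoc x₁ _
  have z2 : ∀ (n : ℕ) (x₂ : Ext.{w} (B₁ ⊞ B₂) F n),
      ε.comp ((Ext.mk₀ f).comp x₂ (zero_add n)) (add_comm 1 n) = 0 := by
    intro n x₂
    subst hε
    exact hS.extClass_comp_assoc x₂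
  clear hε
  -- basic identities
  have hg_inl : ∀ (n : ℕ) (e : Ext.{w} Z F n),
      (Ext.mk₀ biprod.inl).comp ((Ext.mk₀ g).comp e (zero_add n)) (zero_add n) =
        (Ext.mk₀ aU).comp e (zero_add n) := by
    intro n e
    rw [Ext.mk₀_comp_mk₀_assoc, hg1]
  have hg_inr : ∀ (n : ℕ) (e : Ext.{w} Z F n),
      (Ext.mk₀ biprod.inr).comp ((Ext.mk₀ g).comp e (zero_add n)) (zero_add n) =
        (Ext.mk₀ aV).comp e (zero_add n) := by
    intro n e
    rw [Ext.mk₀_comp_mk₀_assoc, hg2]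
  have hf_eq : f = bU ≫ biprod.inl - bV ≫ biprod.inr := by
    apply biprod.hom_ext
    · simp [hf1]
    · simp [hf2]
  have hf : ∀ (n : ℕ) (x : Ext.{w} (B₁ ⊞ B₂) F n),
      ΘW n ((Ext.mk₀ f).comp x (zero_add n)) =
        sU n (ΘU n ((Ext.mk₀ biprod.inl).comp x (zero_add n))) -
          sV n (ΘV n ((Ext.mk₀ biprod.inr).comp x (zero_add n))) := by
    intro n x
    rw [hsU, hsV, ← map_sub, Ext.mk₀_comp_mk₀_assoc, Ext.mk₀_comp_mk₀_assoc, hf_eq,
      sub_eq_add_neg (bU ≫ biprod.inl), Ext.mk₀_add, Ext.mk₀_neg, Ext.add_comp, Ext.neg_comp,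
      sub_eq_add_neg]
  -- vanishing of `g ≫ e` from the vanishing of the two restrictions
  have hker : ∀ (n : ℕ) (e : Ext.{w} Z F n), rU n e = 0 → rV n e = 0 →
      (Ext.mk₀ g).comp e (zero_add n) = 0 := by
    intro n e h1 h2
    rw [hrU, AddEquiv.map_eq_zero_iff] at h1
    rw [hrV, AddEquiv.map_eq_zero_iff] at h2
    apply Ext.biprod_ext
    · rw [hg_inl, h1, Ext.comp_zero]
    · rw [hg_inr, h2, Ext.comp_zero]
  have hd : ∀ (n : ℕ) (p : GU n × GV n),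
      ((sU n).comp (AddMonoidHom.fst (GU n) (GV n)) -
        (sV n).comp (AddMonoidHom.snd (GU n) (GV n)) : GU n × GV n →+ GW n) p =
        sU n p.1 - sV n p.2 := fun n p => rfl
  have hpair : ∀ (n : ℕ) (x₁ : Ext.{w} B₁ F n) (x₂ : Ext.{w} B₂ F n),
      ∃ x : Ext.{w} (B₁ ⊞ B₂) F n, (Ext.mk₀ biprod.inl).comp x (zero_add n) = x₁ ∧
        (Ext.mk₀ biprod.inr).comp x (zero_add n) = x₂ := by
    intro n x₁ x₂
    refine ⟨Ext.biprodAddEquiv.symm (x₁, x₂), ?_, ?_⟩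
    · rw [← Ext.biprodAddEquiv_apply_fst, AddEquiv.apply_symm_apply]
    · rw [← Ext.biprodAddEquiv_apply_snd, AddEquiv.apply_symm_apply]
  let δ : ∀ n : ℕ, GW n →+ Ext.{w} Z F (n + 1) := fun n =>
    (ε.precomp F (add_comm 1 n)).comp (ΘW n).symm.toAddMonoidHom
  have hδ : ∀ (n : ℕ) (y : GW n), δ n y = ε.comp ((ΘW n).symm y) (add_comm 1 n) :=
    fun n y => rfl
  refine ⟨δ, ?_, ?_, ?_, ?_⟩
  · rw [AddSubgroup.eq_bot_iff_forall]
    intro e he
    rw [AddMonoidHom.mem_ker, AddMonoidHom.prod_apply, Prod.mk_eq_zero] at he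
    have h0 := hker 0 e he.1 he.2
    apply Ext.precomp_mk₀_injective_of_epi F g
    rw [map_zero]
    exact h0
  · intro n
    ext e
    constructor
    · intro he
      rw [AddMonoidHom.mem_ker, AddMonoidHom.prod_apply, Prod.mk_eq_zero] at he
      have h0 := hker (n + 1) e he.1 he.2
      obtain ⟨x₁, hx₁⟩ := ex3 n e h0
      refine ⟨ΘW n x₁, ?_⟩
      rw [hδ, AddEquiv.symm_apply_apply]
      exact hx₁
    · rintro ⟨y, rfl⟩
      rw [AddMonoidHom.mem_ker, AddMonoidHom.prod_apply, Prod.mk_eq_zero, hrU, hrV, hδ,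
        ← hg_inl, ← hg_inr, z1, Ext.comp_zero, Ext.comp_zero, map_zero, map_zero]
      exact ⟨rfl, rfl⟩
  · intro n
    ext ⟨p, q⟩
    constructor
    · intro hpq
      rw [AddMonoidHom.mem_ker, hd] at hpq
      obtain ⟨x₁, rfl⟩ := (ΘU n).surjective p
      obtain ⟨x₂, rfl⟩ := (ΘV n).surjective q
      obtain ⟨x, hx1, hx2⟩ := hpair n x₁ x₂
      have h0 : (Ext.mk₀ f).comp x (zero_add n) = 0 := by
        rw [← AddEquiv.map_eq_zero_iff (ΘW n), hf, hx1, hx2]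
        exact hpq
      obtain ⟨e, he⟩ := ex2 n x h0
      refine ⟨e, ?_⟩
      rw [AddMonoidHom.prod_apply, hrU, hrV, ← hg_inl, ← hg_inr, he, hx1, hx2]
    · rintro ⟨e, he⟩
      rw [AddMonoidHom.prod_apply, Prod.mk.injEq] at he
      rw [AddMonoidHom.mem_ker, hd, ← he.1, ← he.2, hrU, hrV, ← hg_inl, ← hg_inr, ← hf,
        Ext.mk₀_comp_mk₀_assoc, hzero, Ext.mk₀_zero, Ext.zero_comp, map_zero]
  · intro n
    ext y
    constructor
    · intro hy
      rw [AddMonoidHom.mem_ker, hδ] at hy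
      obtain ⟨x, hx⟩ := ex1 n ((ΘW n).symm y) hy
      refine ⟨(ΘU n ((Ext.mk₀ biprod.inl).comp x (zero_add n)),
        ΘV n ((Ext.mk₀ biprod.inr).comp x (zero_add n))), ?_⟩
      rw [hd, ← hf, hx, AddEquiv.apply_symm_apply]
    · rintro ⟨⟨p, q⟩, rfl⟩
      obtain ⟨x₁, rfl⟩ := (ΘU n).surjective p
      obtain ⟨x₂, rfl⟩ := (ΘV n).surjective q
      obtain ⟨x, hx1, hx2⟩ := hpair n x₁ x₂
      rw [AddMonoidHom.mem_ker, hd, ← hx1, ← hx2, ← hf, hδ, AddEquiv.symm_apply_apply, z2]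

theorem mv_abstract (hzero : biprod.lift bU (-bV) ≫ biprod.desc aU aV = 0)
    (hS : (ShortComplex.mk (biprod.lift bU (-bV)) (biprod.desc aU aV) hzero).ShortExact) (F : C)
    {GU GV GW : ℕ → Type w'} [∀ n, AddCommGroup (GU n)] [∀ n, AddCommGroup (GV n)]
    [∀ n, AddCommGroup (GW n)]
    (ΘU : ∀ n, Ext.{w} B₁ F n ≃+ GU n) (ΘV : ∀ n, Ext.{w} B₂ F n ≃+ GV n)
    (ΘW : ∀ n, Ext.{w} A F n ≃+ GW n)
    (rU : ∀ n, Ext.{w} Z F n →+ GU n) (rV : ∀ n, Ext.{w} Z F n →+ GV n)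
    (sU : ∀ n, GU n →+ GW n) (sV : ∀ n, GV n →+ GW n)
    (hrU : ∀ n (e : Ext.{w} Z F n), rU n e = ΘU n ((Ext.mk₀ aU).comp e (zero_add n)))
    (hrV : ∀ n (e : Ext.{w} Z F n), rV n e = ΘV n ((Ext.mk₀ aV).comp e (zero_add n)))
    (hsU : ∀ n (x : Ext.{w} B₁ F n), sU n (ΘU n x) = ΘW n ((Ext.mk₀ bU).comp x (zero_add n)))
    (hsV : ∀ n (x : Ext.{w} B₂ F n), sV n (ΘV n x) = ΘW n ((Ext.mk₀ bV).comp x (zero_add n))) :
    ∃ δ : ∀ n : ℕ, GW n →+ Ext.{w} Z F (n + 1),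
      (AddMonoidHom.prod (rU 0) (rV 0)).ker = ⊥ ∧
      (∀ n : ℕ, (AddMonoidHom.prod (rU (n + 1)) (rV (n + 1))).ker = (δ n).range) ∧
      (∀ n : ℕ, ((sU n).comp (AddMonoidHom.fst _ _) - (sV n).comp (AddMonoidHom.snd _ _)).ker =
        (AddMonoidHom.prod (rU n) (rV n)).range) ∧
      (∀ n : ℕ, (δ n).ker =
        ((sU n).comp (AddMonoidHom.fst _ _) - (sV n).comp (AddMonoidHom.snd _ _)).range) :=
  mv_abstract' _ _ hzero hS (biprod.lift_fst _ _) (biprod.lift_snd _ _) (biprod.inl_desc _ _)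
    (biprod.inr_desc _ _) F ΘU ΘV ΘW rU rV sU sV hrU hrV hsU hsV

end MV

end Groth.Agent.Lib.Helper2.EtMV
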