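import Mathlib

/-!
# Helper2 / EtMV: a coherence for isomorphisms obtained from uniqueness of left adjoints

Abstract form of: `pullConstIso (f ≫ t) = pullComp f t ≫ f⁻¹(pullConstIso t) ≫ pullConstIso f`.
-/

set_option autoImplicit false
open CategoryTheory

namespace Groth.Agent.Lib.Helper2.EtMV

universe v₀ v₁ v₂ v₃ u₀ u₁ u₂ u₃

variable {𝒜 : Type u₀} [Category.{v₀} 𝒜] {𝒳 : Type u₁} [Category.{v₁} 𝒳]
  {𝒴 : Type u₂} [Category.{v₂} 𝒴] {𝒵 : Type u₃} [Category.{v₃} 𝒵]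
  {cX : 𝒜 ⥤ 𝒳} {ΓX : 𝒳 ⥤ 𝒜} (aX : cX ⊣ ΓX)
  {cY : 𝒜 ⥤ 𝒴} {ΓY : 𝒴 ⥤ 𝒜} (aY : cY ⊣ ΓY)
  {cZ : 𝒜 ⥤ 𝒵} {ΓZ : 𝒵 ⥤ 𝒜} (aZ : cZ ⊣ ΓZ)
  {Pf : 𝒴 ⥤ 𝒳} {Qf : 𝒳 ⥤ 𝒴} (af : Pf ⊣ Qf)
  {Pt : 𝒵 ⥤ 𝒴} {Qt : 𝒴 ⥤ 𝒵} (at' : Pt ⊣ Qt)
  {Pft : 𝒵 ⥤ 𝒳} {Qft : 𝒳 ⥤ 𝒵} (aft : Pft ⊣ Qft)
  (σf : Qf ⋙ ΓY ≅ ΓX) (σt : Qt ⋙ ΓZ ≅ ΓY) (σft : Qft ⋙ ΓZ ≅ ΓX)
  (pc : Qf ⋙ Qt ≅ Qft)

theorem leftAdjointUniq_comp_app
    (hR : ∀ B : 𝒳, ΓZ.map (pc.hom.app B) ≫ σft.hom.app B =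
      σt.hom.app (Qf.obj B) ≫ σf.hom.app B) (M : 𝒜) :
    (Adjunction.leftAdjointUniq ((aZ.comp aft).ofNatIsoRight σft) aX).hom.app M =
      (Adjunction.leftAdjointUniq aft ((at'.comp af).ofNatIsoRight pc)).hom.app (cZ.obj M) ≫
        Pf.map ((Adjunction.leftAdjointUniq ((aZ.comp at').ofNatIsoRight σt) aY).hom.app M) ≫
          (Adjunction.leftAdjointUniq ((aY.comp af).ofNatIsoRight σf) aX).hom.app M := by
  obtain ⟨θf, hθf⟩ : ∃ θ : cY ⋙ Pf ≅ cX,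
      θ = Adjunction.leftAdjointUniq ((aY.comp af).ofNatIsoRight σf) aX := ⟨_, rfl⟩
  obtain ⟨θt, hθt⟩ : ∃ θ : cZ ⋙ Pt ≅ cY,
      θ = Adjunction.leftAdjointUniq ((aZ.comp at').ofNatIsoRight σt) aY := ⟨_, rfl⟩
  obtain ⟨γ, hγ⟩ : ∃ γ : Pft ≅ Pt ⋙ Pf,
      γ = Adjunction.leftAdjointUniq aft ((at'.comp af).ofNatIsoRight pc) := ⟨_, rfl⟩
  have h_γ : ∀ A : 𝒵, aft.unit.app A ≫ Qft.map (γ.hom.app A) =
      at'.unit.app A ≫ Qt.map (af.unit.app (Pt.obj A)) ≫ pc.hom.app (Pf.obj (Pt.obj A)) := by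
    intro A
    have := Adjunction.unit_leftAdjointUniq_hom_app aft ((at'.comp af).ofNatIsoRight pc) A
    rw [← hγ] at this
    rw [this]
    simp
  have h_t : ∀ M : 𝒜, aZ.unit.app M ≫ ΓZ.map (at'.unit.app (cZ.obj M)) ≫
      σt.hom.app (Pt.obj (cZ.obj M)) ≫ ΓY.map (θt.hom.app M) = aY.unit.app M := by
    intro M
    have := Adjunction.unit_leftAdjointUniq_hom_app ((aZ.comp at').ofNatIsoRight σt) aY M
    rw [← hθt] at this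
    rw [← this]
    simp
  have h_f : ∀ M : 𝒜, aY.unit.app M ≫ ΓY.map (af.unit.app (cY.obj M)) ≫
      σf.hom.app (Pf.obj (cY.obj M)) ≫ ΓX.map (θf.hom.app M) = aX.unit.app M := by
    intro M
    have := Adjunction.unit_leftAdjointUniq_hom_app ((aY.comp af).ofNatIsoRight σf) aX M
    rw [← hθf] at this
    rw [← this]
    simp
  rw [← hθf, ← hθt, ← hγ]
  apply (((aZ.comp aft).ofNatIsoRight σft).homEquiv _ _).injective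
  rw [Adjunction.homEquiv_leftAdjointUniq_hom_app, Adjunction.homEquiv_unit]
  have hunit : ((aZ.comp aft).ofNatIsoRight σft).unit.app M =
      aZ.unit.app M ≫ ΓZ.map (aft.unit.app (cZ.obj M)) ≫ σft.hom.app (Pft.obj (cZ.obj M)) := by
    simp
  rw [hunit]
  set A := cZ.obj M with hA
  -- piece 1
  have P1 : ΓZ.map (aft.unit.app A) ≫ σft.hom.app (Pft.obj A) ≫ ΓX.map (γ.hom.app A) =
      ΓZ.map (at'.unit.app A) ≫ σt.hom.app (Pt.obj A) ≫ ΓY.map (af.unit.app (Pt.obj A)) ≫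
        σf.hom.app (Pf.obj (Pt.obj A)) := by
    have n1 := σft.hom.naturality (γ.hom.app A)
    have n2 := σt.hom.naturality (af.unit.app (Pt.obj A))
    dsimp at n1 n2
    rw [← n1, ← Category.assoc, ← ΓZ.map_comp, h_γ, ΓZ.map_comp, ΓZ.map_comp, Category.assoc,
      Category.assoc, hR, ← Category.assoc (ΓZ.map (Qt.map _)), n2, Category.assoc]
  -- piece 2
  have P2 : ΓY.map (af.unit.app (Pt.obj A)) ≫ σf.hom.app (Pf.obj (Pt.obj A)) ≫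
      ΓX.map (Pf.map (θt.hom.app M)) =
      ΓY.map (θt.hom.app M) ≫ ΓY.map (af.unit.app (cY.obj M)) ≫
        σf.hom.app (Pf.obj (cY.obj M)) := by
    have n3 := σf.hom.naturality (Pf.map (θt.hom.app M))
    have n4 := af.unit.naturality (θt.hom.app M)
    dsimp at n3 n4
    rw [← n3, ← Category.assoc, ← ΓY.map_comp, ← n4, ΓY.map_comp, Category.assoc]
  symm
  calc (aZ.unit.app M ≫ ΓZ.map (aft.unit.app A) ≫ σft.hom.app (Pft.obj A)) ≫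
        ΓX.map (γ.hom.app A ≫ Pf.map (θt.hom.app M) ≫ θf.hom.app M)
      = aZ.unit.app M ≫ (ΓZ.map (aft.unit.app A) ≫ σft.hom.app (Pft.obj A) ≫
          ΓX.map (γ.hom.app A)) ≫ ΓX.map (Pf.map (θt.hom.app M)) ≫ ΓX.map (θf.hom.app M) := by
        simp only [Functor.map_comp, Category.assoc]
    _ = aZ.unit.app M ≫ ΓZ.map (at'.unit.app A) ≫ σt.hom.app (Pt.obj A) ≫
          (ΓY.map (af.unit.app (Pt.obj A)) ≫ σf.hom.app (Pf.obj (Pt.obj A)) ≫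
            ΓX.map (Pf.map (θt.hom.app M))) ≫ ΓX.map (θf.hom.app M) := by
        rw [P1]
        simp only [Category.assoc]
    _ = (aZ.unit.app M ≫ ΓZ.map (at'.unit.app A) ≫ σt.hom.app (Pt.obj A) ≫
          ΓY.map (θt.hom.app M)) ≫ ΓY.map (af.unit.app (cY.obj M)) ≫
            σf.hom.app (Pf.obj (cY.obj M)) ≫ ΓX.map (θf.hom.app M) := by
        rw [P2]
        simp only [Category.assoc]
    _ = aX.unit.app M := by
        rw [h_t, h_f]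

end Groth.Agent.Lib.Helper2.EtMV
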