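import Groth.Agent.Lib.Helper2.EtMV.ExtNat
import Groth.Agent.Lib.Helper2.EtMV.MVAlg
import Groth.Agent.Lib.Helper2.EtMV.AdjCoh
import Groth.Agent.Lib.Helper13.EtaleRestr
import Groth.Agent.Lib.Helper13.StalkPull
import Groth.Agent.Lib.Helper13.StalkConservative
import Groth.Prelude.Def_EtCore

set_option autoImplicit false
open CategoryTheory CategoryTheory.Limits AlgebraicGeometry Opposite EtCore

namespace Groth.Agent.Lib.Helper2.EtMV

universe u

section Coh

variable {X Y Z : Scheme.{u}} (f : X ⟶ Y) (t : Y ⟶ Z)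

lemma pushGsec_comp (B : EtCoh.Ab X) :
    (gsec Z).map ((EtCoh.pushComp t f).hom.app B) ≫ (pushGsecIso (f ≫ t)).hom.app B =
      (pushGsecIso t).hom.app ((EtCoh.push f).obj B) ≫ (pushGsecIso f).hom.app B := by
  dsimp [EtCoh.pushComp, pushGsecIso]
  rw [Functor.sheafPushforwardContinuousComp'_hom_app_hom_app]
  change B.obj.map _ ≫ B.obj.map _ =
    B.obj.map ((EtCoh.bc f).map (bcTopIso t).op.inv.unop).op ≫ B.obj.map _
  rw [← Functor.map_comp, ← Functor.map_comp]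
  congr 1
  apply Quiver.Hom.unop_inj
  exact (IsTerminal.isTerminalObj (EtCoh.bc f) _ (bcTopIsTerminal t)).hom_ext _ _

theorem pullConstIso_comp_app (M : AddCommGrpCat.{u+1}) :
    (pullConstIso (f ≫ t)).hom.app M =
      (pullComp f t).hom.app ((constantSheaf Z.smallEtaleTopology AddCommGrpCat.{u+1}).obj M) ≫
        (EtCoh.pull f).map ((pullConstIso t).hom.app M) ≫ (pullConstIso f).hom.app M :=
  leftAdjointUniq_comp_app (constAdj X) (constAdj Y) (constAdj Z) (EtCoh.pullPushAdj f)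
    (EtCoh.pullPushAdj t) (EtCoh.pullPushAdj (f ≫ t)) (pushGsecIso f) (pushGsecIso t)
    (pushGsecIso (f ≫ t)) (EtCoh.pushComp t f) (pushGsec_comp f t) M

/-- The coherence needed for Mayer–Vietoris, in the form used by `HpullVia`. -/
theorem pullConst_via {f₀ : X ⟶ Z} (w : f ≫ t = f₀) (M : Type) [AddCommGroup M] :
    (pullConst f M).inv ≫ (EtCoh.pull f).map (pullConst t M).inv ≫
      (((pullComp f t).symm ≪≫ pullCongr w).app (EtCoh.const Z M)).hom = (pullConst f₀ M).inv := by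
  subst w
  rw [← cancel_mono (pullConst (f ≫ t) M).hom, Iso.inv_hom_id]
  dsimp only [pullConst, Iso.app_hom, Iso.app_inv, Iso.trans_hom, Iso.symm_hom, NatTrans.comp_app]
  rw [pullConstIso_comp_app]
  simp [pullCongr, ← Functor.map_comp_assoc]

end Coh

open Groth.Agent.Lib.Helper13.EtaleRestr Groth.Agent.Lib.Helper13.ExtZeroExact
  Groth.Agent.Lib.Helper13.StalkPull Groth.Agent.Lib.Helper13.StalkConservative
  Groth.Agent.Lib.Helper13.ExtAdj

section Open

variable {U X : Scheme.{u}} (j : U ⟶ X) [IsOpenImmersion j]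

/-- `j_! ⊣ j⁻¹` for an open immersion. -/
noncomputable def adjJ : EtShriek.extZero j ⊣ EtCoh.pull j :=
  (EtShriek.extZeroAdj j).ofNatIsoRight (pullIsoRestr j).symm

instance isIso_adjJ_unit : IsIso (adjJ j).unit := inferInstance

lemma pull_preservesFiniteLimits : PreservesFiniteLimits (EtCoh.pull j) := by
  have h1 : PreservesLimitsOfSize.{0, 0} (EtShriek.restrAlong j) :=
    (EtShriek.extZeroAdj j).rightAdjoint_preservesLimits
  have h2 : PreservesFiniteLimits (EtShriek.restrAlong j) :=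
    PreservesLimitsOfSize.preservesFiniteLimits _
  exact preservesFiniteLimits_of_natIso (pullIsoRestr j).symm

lemma pull_injective (I : EtCoh.Ab X) (hI : Injective I) : Injective ((EtCoh.pull j).obj I) :=
  (EtCoh.pull j).injective_obj_of_injective hI

/-- the canonical map `j_! ℤ_U ⟶ ℤ_X`. -/
noncomputable def aMap : (EtShriek.extZero j).obj (EtCoh.const U ℤ) ⟶ EtCoh.const X ℤ :=
  ((adjJ j).homEquiv _ _).symm (pullConst j ℤ).inv

lemma homEquiv_aMap : (adjJ j).homEquiv _ _ (aMap j) = (pullConst j ℤ).inv :=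
  Equiv.apply_symm_apply _ _

lemma unit_pull_aMap :
    (adjJ j).unit.app (EtCoh.const U ℤ) ≫ (EtCoh.pull j).map (aMap j) = (pullConst j ℤ).inv := by
  exact (Adjunction.homEquiv_unit (adjJ j) _ _ _).symm.trans (homEquiv_aMap j)

instance isIso_pull_aMap : IsIso ((EtCoh.pull j).map (aMap j)) := by
  have : IsIso ((adjJ j).unit.app (EtCoh.const U ℤ) ≫ (EtCoh.pull j).map (aMap j)) := by
    rw [unit_pull_aMap]
    infer_instance
  exact IsIso.of_isIso_comp_left ((adjJ j).unit.app (EtCoh.const U ℤ)) _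

variable [PreservesFiniteLimits (EtCoh.pull j)]

/-- `Ext^n(j_! ℤ, F) ≃ H^n(U, j⁻¹ F)`. -/
noncomputable def Θ (F : EtCoh.Ab X) (n : ℕ) :
    Abelian.Ext.{u + 1} ((EtShriek.extZero j).obj (EtCoh.const U ℤ)) F n ≃+
      EtCoh.H U ((EtCoh.pull j).obj F) n :=
  extAdjEquiv (adjJ j) (fun I hI => pull_injective j I hI) (EtCoh.const U ℤ) F n

lemma Hpull_eq (F : EtCoh.Ab X) (n : ℕ) (e : EtCoh.H X F n) :
    Hpull j F n e = Θ j F n ((Abelian.Ext.mk₀ (aMap j)).comp e (zero_add n)) := by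
  change _ = extAdjMap (adjJ j) _ F n _
  rw [extAdjMap_precomp, homEquiv_aMap]
  rfl

end Open

section Rel

variable {W U X : Scheme.{u}} (f : W ⟶ U) (t : U ⟶ X) (f₀ : W ⟶ X) (w : f ≫ t = f₀)
  [IsOpenImmersion f] [IsOpenImmersion t] [IsOpenImmersion f₀]

/-- the transition isomorphism used by `HpullVia`. -/
noncomputable def κIso : EtCoh.pull t ⋙ EtCoh.pull f ≅ EtCoh.pull f₀ :=
  (pullComp f t).symm ≪≫ pullCongr w

noncomputable def βMap :
    EtCoh.const W ℤ ⟶ (EtCoh.pull f₀).obj ((EtShriek.extZero t).obj (EtCoh.const U ℤ)) :=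
  (pullConst f ℤ).inv ≫ (EtCoh.pull f).map ((adjJ t).unit.app (EtCoh.const U ℤ)) ≫
    (κIso f t f₀ w).hom.app ((EtShriek.extZero t).obj (EtCoh.const U ℤ))

instance isIso_βMap : IsIso (βMap f t f₀ w) := by
  unfold βMap
  infer_instance

/-- the canonical map `(j_W)_! ℤ ⟶ (j_U)_! ℤ`. -/
noncomputable def bMap :
    (EtShriek.extZero f₀).obj (EtCoh.const W ℤ) ⟶ (EtShriek.extZero t).obj (EtCoh.const U ℤ) :=
  ((adjJ f₀).homEquiv _ _).symm (βMap f t f₀ w)

lemma unit_pull_bMap :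
    (adjJ f₀).unit.app (EtCoh.const W ℤ) ≫ (EtCoh.pull f₀).map (bMap f t f₀ w) = βMap f t f₀ w := by
  exact (Adjunction.homEquiv_unit (adjJ f₀) _ _ _).symm.trans (Equiv.apply_symm_apply _ _)

instance isIso_pull_bMap : IsIso ((EtCoh.pull f₀).map (bMap f t f₀ w)) := by
  have : IsIso ((adjJ f₀).unit.app (EtCoh.const W ℤ) ≫ (EtCoh.pull f₀).map (bMap f t f₀ w)) := by
    rw [unit_pull_bMap]
    infer_instance
  exact IsIso.of_isIso_comp_left ((adjJ f₀).unit.app (EtCoh.const W ℤ)) _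

omit [IsOpenImmersion f] in
lemma bMap_aMap : bMap f t f₀ w ≫ aMap t = aMap f₀ := by
  apply ((adjJ f₀).homEquiv _ _).injective
  rw [Adjunction.homEquiv_naturality_right, homEquiv_aMap, bMap, Equiv.apply_symm_apply, βMap,
    Category.assoc, Category.assoc, ← (κIso f t f₀ w).hom.naturality, Functor.comp_map,
    ← Functor.map_comp_assoc, unit_pull_aMap]
  exact pullConst_via f t w ℤ

variable [PreservesFiniteLimits (EtCoh.pull f)] [PreservesFiniteLimits (EtCoh.pull t)]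
  [PreservesFiniteLimits (EtCoh.pull f₀)]

omit [IsOpenImmersion f] in
lemma HpullVia_eq (F : EtCoh.Ab X) (n : ℕ)
    (x : Abelian.Ext.{u + 1} ((EtShriek.extZero t).obj (EtCoh.const U ℤ)) F n) :
    HpullVia f t f₀ w F n (Θ t F n x) =
      Θ f₀ F n ((Abelian.Ext.mk₀ (bMap f t f₀ w)).comp x (zero_add n)) :=
  extAdjMap_via (adjJ t) (adjJ f₀) (EtCoh.pull f) (κIso f t f₀ w).hom (pullConst f ℤ).inv F n x

end Rel

section Stalk

lemma isIso_stalk_of_isIso_pull {Y X : Scheme.{u}} (g : Y ⟶ X) {Ω : Type u} [Field Ω]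
    [IsSepClosed Ω] (v : Spec (CommRingCat.of Ω) ⟶ Y) (ξ : Spec (CommRingCat.of Ω) ⟶ X)
    (hv : v ≫ g = ξ) {A B : EtCoh.Ab X} (m : A ⟶ B) [IsIso ((EtCoh.pull g).map m)] :
    IsIso ((EtCoh.stalk ξ).map m) := by
  subst hv
  refine (NatIso.isIso_map_iff (stalkPullIso g v) m).1 ?_
  dsimp
  infer_instance

variable {X : Scheme.{u}} (U : X.Opens) {Ω : Type u} [Field Ω] [IsSepClosed Ω]
  (ξ : Spec (CommRingCat.of Ω) ⟶ X)

omit [IsSepClosed Ω] in
lemma exists_lift_of_mem (hx : ξ default ∈ U) :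
    ∃ v : Spec (CommRingCat.of Ω) ⟶ (U : Scheme.{u}), v ≫ U.ι = ξ := by
  refine ⟨IsOpenImmersion.lift U.ι ξ ?_, IsOpenImmersion.lift_fac _ _ _⟩
  rintro _ ⟨p, rfl⟩
  rw [Scheme.Opens.range_ι, Unique.eq_default p]
  exact hx

omit [IsSepClosed Ω] in
lemma isEmpty_lift_of_not_mem (hx : ξ default ∉ U) :
    IsEmpty {v : Spec (CommRingCat.of Ω) ⟶ (U : Scheme.{u}) // v ≫ U.ι = ξ} := by
  constructor
  rintro ⟨v, rfl⟩
  apply hx
  have : (v ≫ U.ι) default = U.ι (v default) := rfl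
  rw [this]
  exact (v default).2

end Stalk

end Groth.Agent.Lib.Helper2.EtMV
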