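import Mathlib
import Groth.Agent.Lib.Helper2.RDBridge

/-!
# Helper2 / EtMV: `Ext` and adjunctions with exact left adjoint

For an adjunction `L ⊣ R` between abelian categories with `L` exact and an object `Y` of the
source of `R` which is right acyclic for `R` (`Rⁱ R (Y) = 0` for `i > 0`), the comparison map
`Ext^n X (R Y) → Ext^n (L X) Y`, `e ↦ L(e) ≫ ε_Y`, is bijective (`extCoadjMap_bijective`).
-/

set_option autoImplicit false
open CategoryTheory CategoryTheory.Limits CategoryTheory.Abelian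

namespace Groth.Agent.Lib.Helper2.ExtCoadj

open Groth.Agent.Lib.Helper2.RDBridge

universe w w' v v' u u'

variable {C : Type u} [Category.{v} C] [Abelian C] [HasExt.{w} C]
  {D : Type u'} [Category.{v'} D] [Abelian D] [HasExt.{w'} D]
  {L : D ⥤ C} {R : C ⥤ D} (adj : L ⊣ R) [L.Additive] [PreservesFiniteLimits L]
  [PreservesFiniteColimits L]

/-- The comparison map `Ext^n X (R Y) → Ext^n (L X) Y`: apply `L` and postcompose with the counit. -/
noncomputable def extCoadjMap (X : D) (Y : C) (n : ℕ) :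
    Ext.{w'} X (R.obj Y) n →+ Ext.{w} (L.obj X) Y n :=
  ((Ext.mk₀ (adj.counit.app Y)).postcomp (L.obj X) (add_zero n)).comp
    (L.mapExtAddHom X (R.obj Y) n)

lemma extCoadjMap_apply (X : D) (Y : C) (n : ℕ) (e : Ext.{w'} X (R.obj Y) n) :
    extCoadjMap adj X Y n e =
      (e.mapExactFunctor L).comp (Ext.mk₀ (adj.counit.app Y)) (add_zero n) := rfl

lemma extCoadjMap_mk₀ (X : D) (Y : C) (g : X ⟶ R.obj Y) :
    extCoadjMap adj X Y 0 (Ext.mk₀ g) = Ext.mk₀ ((adj.homEquiv X Y).symm g) := by
  rw [extCoadjMap_apply, Ext.mapExactFunctor_mk₀, Ext.mk₀_comp_mk₀, Adjunction.homEquiv_counit]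

lemma extCoadjMap_bijective_zero (X : D) (Y : C) : Function.Bijective (extCoadjMap adj X Y 0) := by
  constructor
  · intro e₁ e₂ h
    obtain ⟨g₁, rfl⟩ := (Ext.mk₀_bijective _ _).2 e₁
    obtain ⟨g₂, rfl⟩ := (Ext.mk₀_bijective _ _).2 e₂
    rw [extCoadjMap_mk₀, extCoadjMap_mk₀] at h
    rw [(adj.homEquiv X Y).symm.injective ((Ext.mk₀_bijective _ _).1 h)]
  · intro y
    obtain ⟨g, rfl⟩ := (Ext.mk₀_bijective _ _).2 y
    exact ⟨Ext.mk₀ (adj.homEquiv X Y g), by rw [extCoadjMap_mk₀, Equiv.symm_apply_apply]⟩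

/-- naturality in the second variable -/
lemma extCoadjMap_comp_mk₀ (X : D) {Y Y' : C} (β : Y ⟶ Y') (n : ℕ) (e : Ext.{w'} X (R.obj Y) n) :
    extCoadjMap adj X Y' n (e.comp (Ext.mk₀ (R.map β)) (add_zero n)) =
      (extCoadjMap adj X Y n e).comp (Ext.mk₀ β) (add_zero n) := by
  have hnat : L.map (R.map β) ≫ adj.counit.app Y' = adj.counit.app Y ≫ β :=
    adj.counit.naturality β
  rw [extCoadjMap_apply, extCoadjMap_apply, Ext.mapExactFunctor_comp, Ext.mapExactFunctor_mk₀,
    Ext.comp_assoc_of_third_deg_zero, Ext.comp_assoc_of_third_deg_zero, Ext.mk₀_comp_mk₀,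
    Ext.mk₀_comp_mk₀, hnat]

variable [R.Additive]

/-- compatibility with connecting homomorphisms -/
lemma extCoadjMap_extClass (X : D) {S : ShortComplex C} (hS : S.ShortExact)
    (hRS : (S.map R).ShortExact) (n : ℕ) (z : Ext.{w'} X (R.obj S.X₃) n) :
    extCoadjMap adj X S.X₁ (n + 1) (z.comp hRS.extClass rfl) =
      (extCoadjMap adj X S.X₃ n z).comp hS.extClass rfl := by
  have hLRS : ((S.map R).map L).ShortExact := hRS.map_of_exact L
  let φ : (S.map R).map L ⟶ S :=
    { τ₁ := adj.counit.app S.X₁, τ₂ := adj.counit.app S.X₂, τ₃ := adj.counit.app S.X₃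
      comm₁₂ := (adj.counit.naturality S.f).symm
      comm₂₃ := (adj.counit.naturality S.g).symm }
  have hnat : hLRS.extClass.comp (Ext.mk₀ (adj.counit.app S.X₁)) (add_zero 1) =
      (Ext.mk₀ (adj.counit.app S.X₃)).comp hS.extClass (zero_add 1) :=
    ShortComplex.ShortExact.extClass_naturality hLRS hS φ
  have e₁ : (z.comp hRS.extClass rfl).mapExactFunctor L =
      (z.mapExactFunctor L).comp hLRS.extClass rfl := by
    rw [Ext.mapExactFunctor_comp]
    exact congrArg (fun t => (z.mapExactFunctor L).comp t rfl)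
      (Ext.mapExactFunctor_extClass L hRS)
  calc extCoadjMap adj X S.X₁ (n + 1) (z.comp hRS.extClass rfl)
      = ((z.mapExactFunctor L).comp hLRS.extClass rfl).comp
        (Ext.mk₀ (adj.counit.app S.X₁)) (add_zero (n + 1)) :=
        congrArg (fun t => Ext.comp t (Ext.mk₀ (adj.counit.app S.X₁)) (add_zero (n + 1))) e₁
    _ = (z.mapExactFunctor L).comp
          (hLRS.extClass.comp (Ext.mk₀ (adj.counit.app S.X₁)) (add_zero 1)) rfl :=
        Ext.comp_assoc_of_third_deg_zero _ _ _ _
    _ = (z.mapExactFunctor L).comp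
          ((Ext.mk₀ (adj.counit.app S.X₃)).comp hS.extClass (zero_add 1)) rfl :=
        congrArg (fun t => (z.mapExactFunctor L).comp t rfl) hnat
    _ = ((z.mapExactFunctor L).comp (Ext.mk₀ (adj.counit.app S.X₃)) (add_zero n)).comp
          hS.extClass rfl :=
        (Ext.comp_assoc_of_second_deg_zero _ _ _ _).symm

variable [EnoughInjectives C]

theorem extCoadjMap_bijective (X : D) :
    ∀ (n : ℕ) (Y : C), RAcyc R Y → Function.Bijective (extCoadjMap adj X Y n) := by
  haveI : PreservesFiniteLimits R := by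
    have : PreservesLimitsOfSize.{0, 0} R := adj.rightAdjoint_preservesLimits
    exact PreservesLimitsOfSize.preservesFiniteLimits _
  intro n
  induction n with
  | zero => exact fun Y _ => extCoadjMap_bijective_zero adj X Y
  | succ n ih =>
    intro Y hY
    let S : ShortComplex C := ShortComplex.mk (Injective.ι Y) (cokernel.π (Injective.ι Y))
      (cokernel.condition _)
    have hS : S.ShortExact :=
      { exact := ShortComplex.exact_cokernel (Injective.ι Y)
        mono_f := inferInstanceAs (Mono (Injective.ι Y))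
        epi_g := inferInstanceAs (Epi (cokernel.π (Injective.ι Y))) }
    haveI : Injective S.X₂ := inferInstanceAs (Injective (Injective.under Y))
    have hRS : (S.map R).ShortExact := shortExact_map_of_isZero R S hS (hY 1 Nat.one_pos)
    haveI : Injective (S.map R).X₂ := Injective.injective_of_adjoint adj S.X₂
    have h₂ : RAcyc R S.X₂ := racyc_of_injective R S.X₂
    have h₃ : RAcyc R S.X₃ := racyc_X₃ R S hS hY h₂
    have ih₂ := ih S.X₂ h₂
    have ih₃ := ih S.X₃ h₃
    have hg : ∀ y : Ext.{w'} X (R.obj S.X₂) n,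
        extCoadjMap adj X S.X₃ n (y.comp (Ext.mk₀ (S.map R).g) (add_zero n)) =
          (extCoadjMap adj X S.X₂ n y).comp (Ext.mk₀ S.g) (add_zero n) :=
      fun y => extCoadjMap_comp_mk₀ adj X S.g n y
    constructor
    · rw [injective_iff_map_eq_zero]
      intro e he
      obtain ⟨z, rfl⟩ := Ext.covariant_sequence_exact₁ _ hRS e (Ext.eq_zero_of_injective _) rfl
      have he' := (extCoadjMap_extClass adj X hS hRS n z).symm.trans he
      obtain ⟨y, hy⟩ := Ext.covariant_sequence_exact₃ _ hS (extCoadjMap adj X S.X₃ n z) rfl he'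
      obtain ⟨y', rfl⟩ := ih₂.2 y
      have hz : y'.comp (Ext.mk₀ (S.map R).g) (add_zero n) = z := ih₃.1 ((hg y').trans hy)
      rw [← hz]
      calc (y'.comp (Ext.mk₀ (S.map R).g) (add_zero n)).comp hRS.extClass rfl
          = y'.comp ((Ext.mk₀ (S.map R).g).comp hRS.extClass (zero_add 1)) rfl :=
            Ext.comp_assoc_of_second_deg_zero _ _ _ _
        _ = y'.comp (0 : Ext.{w'} (S.map R).X₂ (S.map R).X₁ 1) rfl :=
            congrArg (fun t => y'.comp t rfl) hRS.comp_extClass
        _ = 0 := Ext.comp_zero _ _ _ _ _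
    · intro y
      obtain ⟨z, rfl⟩ := Ext.covariant_sequence_exact₁ _ hS y (Ext.eq_zero_of_injective _) rfl
      obtain ⟨z', rfl⟩ := ih₃.2 z
      exact ⟨z'.comp hRS.extClass rfl, extCoadjMap_extClass adj X hS hRS n z'⟩

end Groth.Agent.Lib.Helper2.ExtCoadj
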